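import Groth.Agent.Lib.TorsorNorm.SubAV
import Groth.Agent.H52.AVHomPointed
import Groth.Agent.H52.FBase.GeomRedSch
import Groth.Agent.H4.MulIso
import Groth.Agent.Lib.GrpQ.Kernel
import Groth.Agent.Lib.GrpQ.RedSubgroup
import Groth.Agent.Lib.GrpQ.FlatHom
import Groth.Agent.Lib.SemiAbIsog.NormalPts

/-!
# Almost complements of abelian subvarieties
-/

set_option autoImplicit false
set_option backward.isDefEq.respectTransparency false
set_option linter.style.haveILetI false
universe u

open CategoryTheory CategoryTheory.Limits MonoidalCategory CartesianMonoidalCategory MonObj AlgebraicGeometry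

namespace Groth.Agent.Lib.TorsorNorm

variable {k : Type u} [Field k] {G A : Over (Spec (CommRingCat.of k))} [GrpObj G] [GrpObj A]
  [IsProper A.hom] [Smooth A.hom] [ConnectedSpace A.left] [Smooth G.hom] [ConnectedSpace G.left]

omit [IsProper A.hom] [Smooth A.hom] [ConnectedSpace A.left] [Smooth G.hom] [ConnectedSpace G.left] in
theorem isMonHom_mul_of_comm {X : Over (Spec (CommRingCat.of k))} [GrpObj X] (f g : X ⟶ G) [IsMonHom f] [IsMonHom g]
    (hc : ∀ (T : Over (Spec (CommRingCat.of k))) (a b : T ⟶ X), (a ≫ f) * (b ≫ g) = (b ≫ g) * (a ≫ f)) :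
    IsMonHom (f * g) := by
  refine ⟨?_, ?_⟩
  · rw [comp_mul, IsMonHom.one_hom, IsMonHom.one_hom]
    have h1 : η[G] = (1 : 𝟙_ (Over (Spec (CommRingCat.of k))) ⟶ G) := by
      rw [Hom.one_def, Subsingleton.elim (toUnit (𝟙_ (Over (Spec (CommRingCat.of k))))) (𝟙 _), Category.id_comp]
    rw [h1, _root_.mul_one]
  · have h1 : μ[X] = fst X X * snd X X := by rw [Hom.mul_def, lift_fst_snd, Category.id_comp]
    have h2 : (f * g) ⊗ₘ (f * g) = lift (fst X X ≫ (f * g)) (snd X X ≫ (f * g)) := by
      apply CartesianMonoidalCategory.hom_ext <;> simp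
    rw [h2, ← Hom.mul_def, h1, comp_mul, MonObj.mul_comp, MonObj.mul_comp, comp_mul, comp_mul]
    rw [_root_.mul_assoc, _root_.mul_assoc, ← _root_.mul_assoc (snd X X ≫ f), hc, _root_.mul_assoc]

/-- The multiplication `A × N → G` by a subgroup is a homomorphism. -/
theorem isMonHom_mul {N : Over (Spec (CommRingCat.of k))} [GrpObj N] (i : A ⟶ G) [IsMonHom i] (j : N ⟶ G)
    [IsMonHom j] : IsMonHom ((i ⊗ₘ j) ≫ μ[G]) := by
  have e : (i ⊗ₘ j) ≫ μ[G] = (fst A N ≫ i) * (snd A N ≫ j) := by
    rw [Hom.mul_def]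
    congr 1
  rw [e]
  exact isMonHom_mul_of_comm _ _ fun T a b => by
    rw [← Category.assoc a (fst A N) i]
    exact central_of_proper i T _ _

omit [GrpObj A] [GrpObj G] [IsProper A.hom] [Smooth A.hom] [ConnectedSpace A.left] [Smooth G.hom] [ConnectedSpace G.left] in
/-- The reduced subgroup over a perfect field. -/
theorem exists_reduced_subgroup_perfect [PerfectField k] (G : Over (Spec (CommRingCat.of k))) [GrpObj G] [LocallyOfFiniteType G.hom]
    [QuasiCompact G.hom] :
    ∃ (R : Over (Spec (CommRingCat.of k))) (_ : GrpObj R) (i : R ⟶ G), IsMonHom i ∧ IsClosedImmersion i.left ∧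
      Surjective i.left ∧ IsReduced R.left := by
  let I := Scheme.IdealSheafData.vanishingIdeal (⊤ : TopologicalSpace.Closeds G.left)
  let R : Over (Spec (CommRingCat.of k)) := Over.mk (I.subschemeι ≫ G.hom)
  let i : R ⟶ G := Over.homMk I.subschemeι rfl
  have hi : IsClosedImmersion i.left := inferInstanceAs (IsClosedImmersion I.subschemeι)
  have hR : IsReduced R.left := H75.RedSub.isReduced_vanishingIdeal _
  have hs : Surjective i.left := ⟨fun x => by
    have := (Scheme.IdealSheafData.range_subschemeι I).ge (show x ∈ (I.support : Set G.left) by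
      rw [Scheme.IdealSheafData.coe_support_vanishingIdeal]; trivial)
    exact this⟩
  have := Over.mono_of_mono_left i
  have : LocallyOfFiniteType R.hom := inferInstanceAs (LocallyOfFiniteType (I.subschemeι ≫ G.hom))
  have hfac : ∀ {T : Over (Spec (CommRingCat.of k))} (x : T ⟶ G), IsReduced T.left → ∃ y, y ≫ i = x := by
    intro T x hT
    have H : i.left.ker ≤ x.left.ker := by
      rw [show i.left.ker = I from I.ker_subschemeι]
      refine Scheme.IdealSheafData.le_ofIdeals_iff.2 fun U a ha => ?_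
      have ha' : IsNilpotent a := by
        rw [Scheme.IdealSheafData.vanishingIdeal_ideal] at ha
        exact nilpotent_iff_mem_prime.2 fun J hJ => (PrimeSpectrum.mem_vanishingIdeal _ _).1 ha ⟨J, hJ⟩ trivial
      exact RingHom.mem_ker.2 (IsReduced.eq_zero _ (ha'.map (x.left.app U).hom))
    refine ⟨Over.homMk (IsClosedImmersion.lift i.left x.left H) ?_, Over.OverMorphism.ext ?_⟩
    · rw [← Over.w i, IsClosedImmersion.lift_fac_assoc, Over.w]
    · exact IsClosedImmersion.lift_fac _ _ _
  obtain ⟨_, hmon⟩ := Groth.Agent.Lib.GrpQ.InfSub.exists_grpObj_of_mono i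
    (hfac _ (inferInstanceAs (IsReduced (Spec (CommRingCat.of k)))))
    (hfac _ (by
      haveI : GeometricallyReduced R.hom := Groth.Agent.H52.FBase.GeomRedSch.geometricallyReduced_of_perfectField _
      haveI : IsLocallyNoetherian R.left := LocallyOfFiniteType.isLocallyNoetherian R.hom
      haveI : GeometricallyReduced (pullback.snd R.hom R.hom) := inferInstance
      exact GeometricallyReduced.isReduced_of_flat_of_isLocallyNoetherian (pullback.snd R.hom R.hom))) (hfac _ hR)
  exact ⟨R, inferInstance, i, hmon, hi, hs, hR⟩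


/-- Conjugates of a subgroup whose product with `A` is everything. -/
theorem exists_norm_kernel [QuasiCompact G.hom] (i : A ⟶ G) [IsMonHom i] [IsClosedImmersion i.left] :
    ∃ (ψ : G ⟶ A) (_ : IsMonHom ψ) (n : ℕ), 0 < n ∧ i ≫ ψ = (𝟙 A) ^ n := by
  obtain ⟨φ, n, hn, hφ⟩ := exists_subAV_norm i
  haveI := Groth.Agent.Lib.GrpSch.geometricallyReduced_of_smooth_field G.hom
  haveI : GeometricallyIntegral G.hom := Groth.Agent.H4.HomImage.geometricallyIntegral_of_connected G
  haveI : IsSeparated G.hom := Groth.Agent.Lib.GrpSch.isSeparated_of_field G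
  haveI := Groth.Agent.Lib.GrpSch.geometricallyReduced_of_smooth_field A.hom
  haveI : GeometricallyIntegral A.hom := Groth.Agent.H4.HomImage.geometricallyIntegral_of_connected A
  haveI : IsCommMonObj A := isCommMonObj_of_isProper_of_geometricallyIntegral A
  let ψ : G ⟶ A := φ * (toUnit G ≫ η[G] ≫ φ)⁻¹
  have hψ : IsMonHom ψ := Groth.Agent.H52.AffToAV.isMonHom_of_pointed ψ (by
    simp only [ψ, comp_mul, GrpObj.comp_inv]
    rw [← Category.assoc η[G], Subsingleton.elim (η[G] ≫ toUnit G) (𝟙 _), Category.id_comp, mul_inv_cancel,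
      Hom.one_def, Subsingleton.elim (toUnit (𝟙_ (Over (Spec (CommRingCat.of k))))) (𝟙 _), Category.id_comp])
  refine ⟨ψ, hψ, n, hn, ?_⟩
  have h := hφ A 1 (𝟙 A)
  rw [Category.id_comp, _root_.one_mul] at h
  simp only [ψ, comp_mul, GrpObj.comp_inv]
  rw [h, ← Category.assoc i, Subsingleton.elim (i ≫ toUnit G) (toUnit A), ← Category.assoc (toUnit A),
    ← Hom.one_def]
  rw [mul_comm ((1 : A ⟶ G) ≫ φ), mul_inv_cancel_right]

/-- The almost complement. -/
theorem exists_complement [LocallyOfFiniteType G.hom] [QuasiCompact G.hom] (i : A ⟶ G) [IsMonHom i]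
    [IsClosedImmersion i.left] :
    ∃ (N : Over (Spec (CommRingCat.of k))) (_ : GrpObj N) (j : N ⟶ G), IsMonHom j ∧ IsClosedImmersion j.left ∧
      AlgGrp.IsNormalHom j ∧
      Flat ((i ⊗ₘ j) ≫ μ[G]).left ∧ Surjective ((i ⊗ₘ j) ≫ μ[G]).left ∧
      IsFinite (pullback.fst i.left j.left ≫ A.hom) ∧ (PerfectField k → Smooth N.hom) := by
  haveI : IsSeparated G.hom := Groth.Agent.Lib.GrpSch.isSeparated_of_field G
  haveI := Groth.Agent.Lib.GrpSch.geometricallyReduced_of_smooth_field A.hom
  haveI : GeometricallyIntegral A.hom := Groth.Agent.H4.HomImage.geometricallyIntegral_of_connected A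
  haveI : IsCommMonObj A := isCommMonObj_of_isProper_of_geometricallyIntegral A
  obtain ⟨ψ, hψ, n, hn, hiψ⟩ := exists_norm_kernel i
  haveI := hψ
  obtain ⟨hnf, hnfl, hns⟩ := Groth.Agent.H4.MulIso.nat (A := A) hn
  obtain ⟨N, _, j, hj, hjc, hK, hjn⟩ := Groth.Agent.Lib.GrpQ.exists_kernel (q := ψ)
  haveI := hj; haveI := hjc
  haveI : LocallyOfFiniteType N.hom := by rw [← Over.w j]; infer_instance
  haveI : QuasiCompact N.hom := by rw [← Over.w j]; infer_instance
  have hsurj : Surjective ((i ⊗ₘ j) ≫ μ[G]).left := by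
    let P := pullback ψ ((𝟙 A : A ⟶ A) ^ n)
    let b : P ⟶ A := pullback.snd _ _
    let g : P ⟶ G := pullback.fst _ _
    have hb : g ≫ ψ = (b ≫ i) ≫ ψ := by
      rw [Category.assoc, hiψ]
      exact pullback.condition
    have hw : ((b ≫ i)⁻¹ * g) ≫ ψ = toUnit P ≫ η[A] := by
      rw [MonObj.mul_comp, GrpObj.inv_comp, hb, inv_mul_cancel, Hom.one_def]
    let c : P ⟶ N := hK.lift _ (toUnit P) hw
    have hc : lift b c ≫ (i ⊗ₘ j) ≫ μ[G] = g := by
      rw [← Category.assoc, lift_map, ← Hom.mul_def, hK.lift_fst, mul_inv_cancel_left]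
    have hg : Surjective g.left :=
      MorphismProperty.of_isPullback (P := @Surjective)
        ((IsPullback.of_hasPullback ψ ((𝟙 A : A ⟶ A) ^ n)).map (Over.forget _)).flip hns
    haveI : Surjective ((lift b c).left ≫ ((i ⊗ₘ j) ≫ μ[G]).left) := by
      rw [← Over.comp_left, hc]; exact hg
    exact Surjective.of_comp (lift b c).left _
  obtain ⟨M, _, m, hm, hmc, hms, hmn, hmS⟩ : ∃ (M : Over (Spec (CommRingCat.of k))) (_ : GrpObj M) (m : M ⟶ N),
      IsMonHom m ∧ IsClosedImmersion m.left ∧ Surjective m.left ∧ AlgGrp.IsNormalHom (m ≫ j) ∧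
        (PerfectField k → Smooth M.hom) := by
    by_cases hp : PerfectField k
    · obtain ⟨M, _, m, hm, hmc, hms, hmr⟩ := exists_reduced_subgroup_perfect N
      haveI := hp; haveI := hm; haveI := hmc; haveI := hms; haveI := hmr
      haveI : LocallyOfFiniteType M.hom := by rw [← Over.w m]; infer_instance
      haveI : GeometricallyReduced M.hom := Groth.Agent.H52.FBase.GeomRedSch.geometricallyReduced_of_perfectField _
      haveI : Smooth M.hom := Groth.Agent.H4.HomImage.smooth_of_geometricallyReduced M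
      haveI : IsClosedImmersion (m ≫ j).left := by rw [Over.comp_left]; infer_instance
      refine ⟨M, inferInstance, m, hm, hmc, hms, fun T g x => ?_, fun _ => inferInstance⟩
      haveI : Smooth (G ⊗ M).hom := Groth.Agent.Lib.GrpQ.smooth_tensor
      haveI : IsReduced (G ⊗ M).left := Groth.Agent.Lib.GrpSch.isReduced_of_smooth_field (G ⊗ M).hom
      obtain ⟨w₀, hw₀⟩ := hjn (G ⊗ M) (fst G M) (snd G M ≫ m)
      have hr : Set.range (fst G M * (snd G M ≫ m ≫ j) * (fst G M)⁻¹).left ⊆ Set.range (m ≫ j).left := by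
        rw [show fst G M * (snd G M ≫ m ≫ j) * (fst G M)⁻¹ = w₀ ≫ j by simpa only [Category.assoc] using hw₀]
        rintro _ ⟨z, rfl⟩
        obtain ⟨z', hz'⟩ := m.left.surjective (w₀.left z)
        exact ⟨z', by rw [Over.comp_left, Over.comp_left, Scheme.Hom.comp_apply, Scheme.Hom.comp_apply, hz']⟩
      obtain ⟨w, hw⟩ := SemiAbIsog.NormalPts.factor_of_range (m ≫ j) _ hr
      refine ⟨lift g x ≫ w, ?_⟩
      rw [Category.assoc, hw]
      simp only [comp_mul, GrpObj.comp_inv, lift_fst, lift_snd_assoc]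
    · refine ⟨N, inferInstance, 𝟙 N, inferInstance, by rw [Over.id_left]; infer_instance,
        by rw [Over.id_left]; infer_instance, by rw [Category.id_comp]; exact hjn, fun h => absurd h hp⟩
  haveI := hm; haveI := hmc; haveI := hms
  haveI : LocallyOfFiniteType M.hom := by rw [← Over.w m]; infer_instance
  haveI : QuasiCompact M.hom := by rw [← Over.w m]; infer_instance
  haveI : IsClosedImmersion (m ≫ j).left := by rw [Over.comp_left]; infer_instance
  haveI hs : Surjective ((i ⊗ₘ (m ≫ j)) ≫ μ[G]).left := by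
    haveI : Surjective (A ◁ m).left :=
      MorphismProperty.of_isPullback (P := @Surjective)
        (Groth.Agent.Lib.GrpSch.isPullback_whiskerLeft A m).flip ‹Surjective m.left›
    have e : (i ⊗ₘ (m ≫ j)) = (A ◁ m) ≫ (i ⊗ₘ j) := by
      apply CartesianMonoidalCategory.hom_ext <;> simp
    rw [e, Category.assoc, Over.comp_left]
    haveI := hsurj
    infer_instance
  haveI := isMonHom_mul i (m ≫ j)
  haveI : LocallyOfFiniteType (A ⊗ M).hom := Groth.Agent.Lib.GrpQ.locallyOfFiniteType_tensor
  haveI : QuasiCompact (A ⊗ M).hom := inferInstanceAs (QuasiCompact (pullback.fst A.hom M.hom ≫ A.hom))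
  refine ⟨M, inferInstance, m ≫ j, inferInstance, inferInstance, hmn,
    Groth.Agent.Lib.GrpQ.flat_of_surjective_of_smooth _, hs, ?_, hmS⟩
  haveI := hnf
  have hP : pullback.fst i.left (m ≫ j).left ≫ ((𝟙 A : A ⟶ A) ^ n).left
      = (pullback.fst i.left (m ≫ j).left ≫ A.hom) ≫ η[A].left := by
    rw [← hiψ]
    simp only [Over.comp_left]
    rw [← Category.assoc, pullback.condition]
    simp only [Category.assoc]
    have : j.left ≫ ψ.left = (toUnit N).left ≫ η[A].left := congrArg CommaMorphism.left hK.w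
    rw [this]
    have e : (toUnit N).left = N.hom := by
      have := Over.w (toUnit N); simpa using this
    rw [e, ← Category.assoc (m.left), Over.w m, ← Category.assoc, ← Category.assoc]
    congr 1
    rw [← Over.w i, pullback.condition_assoc, Category.assoc, Over.w j, Over.w m]
  let L := pullback.lift (pullback.fst i.left (m ≫ j).left) (pullback.fst i.left (m ≫ j).left ≫ A.hom) hP
  have hL : L ≫ pullback.fst _ _ = pullback.fst i.left (m ≫ j).left := pullback.lift_fst _ _ _
  haveI : IsClosedImmersion (L ≫ pullback.fst ((𝟙 A : A ⟶ A) ^ n).left η[A].left) := by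
    rw [hL]; infer_instance
  haveI : IsSeparated (pullback.fst ((𝟙 A : A ⟶ A) ^ n).left η[A].left) := by
    haveI : IsSeparated η[A].left := inferInstance
    infer_instance
  haveI : IsClosedImmersion L := IsClosedImmersion.of_comp L (pullback.fst _ _)
  haveI : IsFinite (pullback.fst ((𝟙 A : A ⟶ A) ^ n).left η[A].left ≫ A.hom) := by
    rw [show A.hom = A.hom from rfl]
    have e : pullback.fst ((𝟙 A : A ⟶ A) ^ n).left η[A].left ≫ A.hom = pullback.snd _ _ := by
      rw [← Over.w ((𝟙 A : A ⟶ A) ^ n), pullback.condition_assoc, Over.w η[A]]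
      exact Category.comp_id _
    rw [e]; infer_instance
  rw [← hL, Category.assoc]
  infer_instance

end Groth.Agent.Lib.TorsorNorm
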