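import Groth.Agent.S1550
import Groth.Agent.S8509
import Groth.Agent.Lib.GalPts.Desc
import Groth.Agent.H26.NeronTorsor
import Groth.Agent.Lib.GrpSch.Basic
import Mathlib.FieldTheory.Galois.Basic

/-!
# The norm map of a torsor under a commutative group scheme over a field
-/

set_option autoImplicit false
set_option backward.isDefEq.respectTransparency false
set_option linter.style.haveILetI false
universe u

open CategoryTheory CategoryTheory.Limits MonoidalCategory CartesianMonoidalCategory MonObj AlgebraicGeometry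

namespace Groth.Agent.Lib.TorsorNorm

variable {k : Type u} [Field k]

attribute [local instance] Curv2.resAlgebra in
/-- A nonempty smooth scheme over a field has a point with values in a finite Galois extension. -/
theorem exists_galois_pt (V : Over (Spec (CommRingCat.of k))) [Smooth V.hom] [Nonempty V.left] :
    ∃ (E : Type u) (_ : Field E) (_ : Algebra k E) (_ : FiniteDimensional k E) (_ : IsGalois k E),
      Nonempty (SGA7.pt (K := k) E ⟶ V) := by
  letI : V.left.Over (Spec (CommRingCat.of k)) := ⟨V.hom⟩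
  haveI : Smooth (V.left ↘ (Spec (CommRingCat.of k))) := ‹Smooth V.hom›
  obtain ⟨x, -, hfd, hsep⟩ := (Groth.Agent.S1550.result k V.left).nonempty
  let F := SeparableClosure k
  haveI := hfd
  haveI := hsep
  let g : V.left.residueField x →ₐ[k] F := IsSepClosed.lift
  let E := IntermediateField.normalClosure k (V.left.residueField x) F
  haveI : Normal k F := inferInstance
  refine ⟨E, inferInstance, inferInstance, inferInstance, inferInstance, ⟨?_⟩⟩
  let h : V.left.residueField x →ₐ[k] E :=
    g.codRestrict E.toSubalgebra fun y => g.fieldRange_le_normalClosure ⟨y, rfl⟩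
  refine Over.homMk (Spec.map (CommRingCat.ofHom h.toRingHom) ≫ V.left.fromSpecResidueField x) ?_
  change _ = Spec.map (CommRingCat.ofHom (algebraMap k E))
  rw [Category.assoc]
  erw [← Groth.Agent.Lib.GeomConn.Residue.specMap_resMap k V.left x]
  rw [← Spec.map_comp, ← CommRingCat.ofHom_comp]
  congr 2
  exact RingHom.ext h.commutes

variable {G V : Over (Spec (CommRingCat.of k))} [GrpObj G] [IsCommMonObj G]

omit [IsCommMonObj G] in
/-- A torsor under a smooth group scheme over a field is smooth. -/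
theorem smooth_of_torsor [Smooth G.hom] [LocallyOfFiniteType V.hom] [Surjective V.hom]
    (a : AlgGrp.Action G V) (hV : IsIso (lift a.act (snd G V))) : Smooth V.hom :=
  Groth.Agent.S8509.smooth_of_isTorsor a
    ⟨inferInstance, inferInstance, inferInstance, hV⟩

open Groth.Agent.H26.Neron in
/-- Division equivariance. -/
theorem divPt_act (a : AlgGrp.Action G V) [IsIso (lift a.act (snd G V))]
    {T : Over (Spec (CommRingCat.of k))} (g : T ⟶ G) (x y : T ⟶ V) :
    divPt a (lift g x ≫ a.act) y = g * divPt a x y := by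
  conv_lhs => rw [← actPt_divPt a x y]
  rw [show lift g (actPt a (divPt a x y) y) ≫ a.act = actPt a (g * divPt a x y) y from
    (Groth.Agent.Lib.GrpSch.act_mul a g _ y).symm, divPt_actPt]

open Groth.Agent.H26.Neron in
/-- The norm map of a torsor. -/
theorem exists_norm (a : AlgGrp.Action G V) [IsIso (lift a.act (snd G V))] [Smooth V.hom] [Nonempty V.left] :
    ∃ (φ : V ⟶ G) (n : ℕ), 0 < n ∧
      ∀ (T : Over (Spec (CommRingCat.of k))) (g : T ⟶ G) (v : T ⟶ V),
        lift g v ≫ a.act ≫ φ = (v ≫ φ) * g ^ n := by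
  obtain ⟨E, _, _, _, _, ⟨w⟩⟩ := exists_galois_pt V
  let P := SGA7.pt (K := k) E
  let d : (E ≃ₐ[k] E) → (V ⊗ P ⟶ G) := fun σ =>
    divPt a (fst V P) (snd V P ≫ SGA7.specAut σ ≫ w)
  obtain ⟨f, hf⟩ : ∃ f, f = ∏ σ : E ≃ₐ[k] E, d σ := ⟨_, rfl⟩
  have hcomp : ∀ {U W : Over (Spec (CommRingCat.of k))} (r : U ⟶ W) (s : (E ≃ₐ[k] E) → (W ⟶ G)),
      r ≫ (∏ σ, s σ) = ∏ σ, (r ≫ s σ) := by
    intro U W r s
    let R : (W ⟶ G) →* (U ⟶ G) := MonoidHom.mk' (fun x => r ≫ x) fun x y => comp_mul r x y
    exact map_prod R s Finset.univ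
  have hinv : ∀ τ : E ≃ₐ[k] E, (V ◁ SGA7.specAut τ) ≫ f = f := by
    intro τ
    rw [hf, hcomp]
    refine Fintype.prod_equiv (Equiv.mulLeft τ) _ _ fun σ => ?_
    simp only [d, P, comp_divPt, whiskerLeft_fst, whiskerLeft_snd_assoc, Equiv.coe_mulLeft,
      GalTw.specAut_mul, Category.assoc]
  obtain ⟨φ, hφ⟩ := Groth.Agent.Lib.GalPts.exists_desc E f hinv
  refine ⟨φ, Fintype.card (E ≃ₐ[k] E), Fintype.card_pos, fun T g v => ?_⟩
  refine Groth.Agent.Lib.GalPts.fst_cancel E ?_
  have key : ∀ (x : T ⟶ V), fst T P ≫ x ≫ φ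
      = ∏ σ : E ≃ₐ[k] E, divPt a (fst T P ≫ x) (snd T P ≫ SGA7.specAut σ ≫ w) := by
    intro x
    have : fst T P ≫ x ≫ φ = (x ▷ P) ≫ f := by
      rw [← hφ, whiskerRight_fst_assoc]
    rw [this, hf, hcomp]
    refine Finset.prod_congr rfl fun σ _ => ?_
    simp only [d, P, comp_divPt, whiskerRight_fst, whiskerRight_snd_assoc]
  rw [← Category.assoc (lift g v), key, comp_mul, MonObj.comp_pow, key]
  conv_lhs =>
    arg 2; ext σ
    rw [← Category.assoc, comp_lift, divPt_act a (fst T P ≫ g)]
  rw [Finset.prod_mul_distrib, Finset.prod_const, Finset.card_univ, mul_comm]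

end Groth.Agent.Lib.TorsorNorm
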