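import Groth.Agent.Lib.TorsorNorm.Basic
import Groth.Agent.Lib.GrpSch.BaseChange
import Groth.Agent.Lib.GrpSch.SmoothReduced
import Groth.Agent.S11992
import Groth.Agent.H4.HomImage
import Mathlib.AlgebraicGeometry.SpreadingOut

/-!
# The norm map of a torsor under an abelian variety over a variety
-/

set_option autoImplicit false
set_option backward.isDefEq.respectTransparency false
set_option linter.style.haveILetI false
universe u

open CategoryTheory CategoryTheory.Limits MonoidalCategory CartesianMonoidalCategory MonObj AlgebraicGeometry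

namespace Groth.Agent.Lib.TorsorNorm

variable {k : Type u} [Field k] {A X Y : Over (Spec (CommRingCat.of k))} [GrpObj A]
  (a : AlgGrp.Action A X) (f : X ⟶ Y) (hinv : a.act ≫ f = snd A X ≫ f)

section Div

variable [IsIso (pullback.lift a.act (snd A X) hinv)]

/-- Division of two points in the same fibre. -/
noncomputable def fibDiv {T : Over (Spec (CommRingCat.of k))} (x y : T ⟶ X) (h : x ≫ f = y ≫ f) : T ⟶ A :=
  pullback.lift x y h ≫ inv (pullback.lift a.act (snd A X) hinv) ≫ fst A X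

theorem comp_fibDiv {T U : Over (Spec (CommRingCat.of k))} (r : U ⟶ T) (x y : T ⟶ X) (h : x ≫ f = y ≫ f) :
    r ≫ fibDiv a f hinv x y h
      = fibDiv a f hinv (r ≫ x) (r ≫ y) (by rw [Category.assoc, Category.assoc, h]) := by
  rw [fibDiv, fibDiv, ← Category.assoc]
  congr 1
  apply pullback.hom_ext <;> simp

theorem fibDiv_congr {T : Over (Spec (CommRingCat.of k))} {x y x' y' : T ⟶ X} (h : x ≫ f = y ≫ f)
    (hx : x = x') (hy : y = y') :
    fibDiv a f hinv x y h = fibDiv a f hinv x' y' (by rw [← hx, ← hy, h]) := by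
  subst hx hy
  rfl

theorem fibDiv_act {T : Over (Spec (CommRingCat.of k))} (b : T ⟶ A) (x y : T ⟶ X) (h : x ≫ f = y ≫ f)
    (h' : (lift b x ≫ a.act) ≫ f = y ≫ f) :
    fibDiv a f hinv (lift b x ≫ a.act) y h' = b * fibDiv a f hinv x y h := by
  have e : lift (fibDiv a f hinv x y h) y
      = pullback.lift x y h ≫ inv (pullback.lift a.act (snd A X) hinv) := by
    apply CartesianMonoidalCategory.hom_ext
    · rw [lift_fst, fibDiv, Category.assoc]
    · rw [lift_snd, Category.assoc]
      have : inv (pullback.lift a.act (snd A X) hinv) ≫ snd A X = pullback.snd f f := by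
        rw [IsIso.inv_comp_eq, pullback.lift_snd]
      rw [this, pullback.lift_snd]
  have e1 : lift (fibDiv a f hinv x y h) y ≫ a.act = x := by
    rw [e, Category.assoc]
    have : inv (pullback.lift a.act (snd A X) hinv) ≫ a.act = pullback.fst f f := by
      rw [IsIso.inv_comp_eq, pullback.lift_fst]
    rw [this, pullback.lift_fst]
  have e2 : pullback.lift (lift b x ≫ a.act) y h'
      = lift (b * fibDiv a f hinv x y h) y ≫ pullback.lift a.act (snd A X) hinv := by
    apply pullback.hom_ext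
    · rw [pullback.lift_fst, Category.assoc, pullback.lift_fst, Groth.Agent.Lib.GrpSch.act_mul, e1]
    · rw [pullback.lift_snd, Category.assoc, pullback.lift_snd, lift_snd]
  conv_lhs => rw [fibDiv, e2]
  rw [Category.assoc, IsIso.hom_inv_id_assoc, lift_fst]

end Div

/-- A flat surjective quotient map of a torsor under a smooth group is smooth. -/
theorem smooth_of_fibre_torsor [Smooth A.hom] [LocallyOfFiniteType X.hom] [QuasiCompact X.hom]
    [LocallyOfFiniteType Y.hom] [IsSeparated Y.hom] [Flat f.left] [Surjective f.left]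
    (htors : IsIso (pullback.lift a.act (snd A X) hinv)) : Smooth f.left := by
  haveI : LocallyOfFiniteType (f.left ≫ Y.hom) := by rw [Over.w]; infer_instance
  haveI : LocallyOfFiniteType f.left := locallyOfFiniteType_of_comp _ Y.hom
  haveI : IsLocallyNoetherian Y.left := LocallyOfFiniteType.isLocallyNoetherian Y.hom
  haveI : LocallyOfFinitePresentation f.left := inferInstance
  have hsq : IsPullback a.act.left (snd A X).left f.left f.left :=
    (IsPullback.of_iso_pullback ⟨hinv⟩ (asIso (pullback.lift a.act (snd A X) hinv))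
      (pullback.lift_fst _ _ _) (pullback.lift_snd _ _ _)).map (Over.forget _)
  have hs : Smooth (snd A X).left := by
    change Smooth (pullback.snd A.hom X.hom)
    infer_instance
  exact MorphismProperty.of_isPullback_of_descendsAlong (P := @Smooth.{u})
    (Q := (@Surjective ⊓ @Flat ⊓ @LocallyOfFinitePresentation : MorphismProperty Scheme.{u}))
    hsq.flip.flip.flip ⟨⟨‹Surjective f.left›, ‹Flat f.left›⟩, ‹LocallyOfFinitePresentation f.left›⟩ hs

open GalDescent in
/-- The norm map on a fibre. -/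
theorem exists_fibre_norm [IsCommMonObj A] [IsIso (pullback.lift a.act (snd A X) hinv)] [Smooth f.left]
    (y : Y.left) (hy : ∃ x : X.left, f.left x = y) :
    ∃ (φ : Over.mk (pullback.fst f.left (Y.left.fromSpecResidueField y) ≫ X.hom) ⟶ A) (n : ℕ), 0 < n ∧
      ∀ (T : Over (Spec (CommRingCat.of k))) (b : T ⟶ A)
        (x x' : T ⟶ Over.mk (pullback.fst f.left (Y.left.fromSpecResidueField y) ≫ X.hom)),
        x.left ≫ pullback.snd _ _ = x'.left ≫ pullback.snd _ _ →
        x' ≫ (Over.homMk (pullback.fst _ _) rfl : _ ⟶ X)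
          = lift b (x ≫ (Over.homMk (pullback.fst _ _) rfl : _ ⟶ X)) ≫ a.act →
        x' ≫ φ = (x ≫ φ) * b ^ n := by
  obtain ⟨x₀, hx₀⟩ := hy
  let K : Type u := Y.left.residueField y
  let ey : Spec (CommRingCat.of K) ⟶ Y.left := Y.left.fromSpecResidueField y
  let W : Over (Spec (CommRingCat.of K)) := Over.mk (pullback.snd f.left ey)
  let Wk : Over (Spec (CommRingCat.of k)) := Over.mk (pullback.fst f.left ey ≫ X.hom)
  haveI : Smooth W.hom := inferInstanceAs (Smooth (pullback.snd f.left ey))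
  haveI : Nonempty W.left := by
    subst hx₀
    obtain ⟨z, -⟩ := Scheme.Pullback.exists_preimage_pullback (f := f.left) (g := ey) x₀
      (IsLocalRing.closedPoint K) (by
        change _ = Y.left.fromSpecResidueField (f.left x₀) _
        rw [Scheme.fromSpecResidueField_apply])
    exact ⟨z⟩
  obtain ⟨E, _, _, _, _, ⟨w⟩⟩ := exists_galois_pt W
  let p : Wk ⟶ X := Over.homMk (pullback.fst f.left ey) rfl
  let pt := SGA7.pt (K := K) E
  let Pk : Over (Spec (CommRingCat.of k)) := Over.mk (pullback.fst W.hom pt.hom ≫ Wk.hom)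
  let q : Pk ⟶ Wk := Over.homMk (pullback.fst W.hom pt.hom) rfl
  let m : (E ≃ₐ[K] E) → (pullback W.hom pt.hom ⟶ W.left) := fun σ =>
    pullback.snd W.hom pt.hom ≫ GalTw.specMap E σ ≫ w.left
  have hm : ∀ σ, m σ ≫ W.hom = pullback.fst W.hom pt.hom ≫ W.hom := by
    intro σ
    simp only [m, Category.assoc]
    rw [Over.w w, GalTw.specMap_comp_pt, pullback.condition]
  have hWk : Wk.hom = W.hom ≫ ey ≫ Y.hom := by
    change pullback.fst f.left ey ≫ X.hom = pullback.snd f.left ey ≫ ey ≫ Y.hom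
    rw [← pullback.condition_assoc, Over.w f]
  let yσ : (E ≃ₐ[K] E) → (Pk ⟶ Wk) := fun σ => Over.homMk (m σ) (by
    change m σ ≫ Wk.hom = pullback.fst W.hom pt.hom ≫ Wk.hom
    rw [hWk, reassoc_of% hm σ])
  have hd : ∀ σ, (q ≫ p) ≫ f = (yσ σ ≫ p) ≫ f := by
    intro σ
    apply Over.OverMorphism.ext
    change (pullback.fst W.hom pt.hom ≫ pullback.fst f.left ey) ≫ f.left
      = (m σ ≫ pullback.fst f.left ey) ≫ f.left
    simp only [Category.assoc, pullback.condition]
    exact ((Category.assoc _ _ _).symm.trans ((congrArg (· ≫ ey) (hm σ)).trans (Category.assoc _ _ _))).symm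
  let d : (E ≃ₐ[K] E) → (Pk ⟶ A) := fun σ => fibDiv a f hinv (q ≫ p) (yσ σ ≫ p) (hd σ)
  obtain ⟨F, hF⟩ : ∃ F, F = ∏ σ : E ≃ₐ[K] E, d σ := ⟨_, rfl⟩
  have hcomp : ∀ {U V : Over (Spec (CommRingCat.of k))} (r : U ⟶ V) (s : (E ≃ₐ[K] E) → (V ⟶ A)),
      r ≫ (∏ σ, s σ) = ∏ σ, (r ≫ s σ) := by
    intro U V r s
    let R : (V ⟶ A) →* (U ⟶ A) := MonoidHom.mk' (fun z => r ≫ z) fun z z' => comp_mul r z z'
    exact map_prod R s Finset.univ
  have hinvF : ∀ τ : E ≃ₐ[K] E, GalTw.galMap E τ W ≫ F.left = F.left := by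
    intro τ
    let g : Pk ⟶ Pk := Over.homMk (GalTw.galMap E τ W) (by
      change GalTw.galMap E τ W ≫ pullback.fst W.hom pt.hom ≫ Wk.hom = pullback.fst W.hom pt.hom ≫ Wk.hom
      rw [← Category.assoc, GalTw.galMap_fst])
    suffices g ≫ F = F from congrArg CommaMorphism.left this
    rw [hF, hcomp]
    refine Fintype.prod_equiv (Equiv.mulLeft τ) _ _ fun σ => ?_
    rw [comp_fibDiv]
    refine fibDiv_congr a f hinv _ ?_ ?_
    · apply Over.OverMorphism.ext
      change GalTw.galMap E τ W ≫ pullback.fst W.hom pt.hom ≫ _ = pullback.fst W.hom pt.hom ≫ _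
      rw [← Category.assoc, GalTw.galMap_fst]
    · apply Over.OverMorphism.ext
      change GalTw.galMap E τ W ≫ m σ ≫ _ = m (τ * σ) ≫ _
      simp only [m, Category.assoc, GalTw.specMap_mul, Equiv.coe_mulLeft]
      erw [reassoc_of% (GalTw.galMap_snd (K := E) τ W)]
  obtain ⟨φ₀, hφ₀⟩ := SplitCover.exists_desc E W F.left hinvF
  have hφw : φ₀ ≫ A.hom = Wk.hom := by
    refine SplitCover.hom_ext E W ?_
    rw [← Category.assoc, hφ₀]
    exact Over.w F
  let φ : Wk ⟶ A := Over.homMk φ₀ hφw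
  refine ⟨φ, Fintype.card (E ≃ₐ[K] E), Fintype.card_pos, fun T b x x' hxx hx' => ?_⟩
  let TK : Over (Spec (CommRingCat.of K)) := Over.mk (x.left ≫ W.hom)
  let TP : Over (Spec (CommRingCat.of k)) := Over.mk (pullback.fst TK.hom pt.hom ≫ T.hom)
  let tq : TP ⟶ T := Over.homMk (pullback.fst TK.hom pt.hom) rfl
  apply Over.OverMorphism.ext
  refine SplitCover.hom_ext E TK (congrArg CommaMorphism.left (?_ : tq ≫ x' ≫ φ = tq ≫ ((x ≫ φ) * b ^ _)))
  have key : ∀ (z : T ⟶ Wk) (_ : z.left ≫ W.hom = x.left ≫ W.hom), ∃ zP : TP ⟶ Pk,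
      zP ≫ q = tq ≫ z ∧ zP.left ≫ pullback.snd W.hom pt.hom = pullback.snd TK.hom pt.hom := by
    intro z hz
    refine ⟨Over.homMk (pullback.lift (pullback.fst TK.hom pt.hom ≫ z.left) (pullback.snd TK.hom pt.hom) ?_) ?_,
      ?_, ?_⟩
    · rw [Category.assoc, hz]
      exact pullback.condition (f := TK.hom)
    · change pullback.lift _ _ _ ≫ pullback.fst W.hom pt.hom ≫ Wk.hom = pullback.fst TK.hom pt.hom ≫ T.hom
      rw [pullback.lift_fst_assoc, Category.assoc, Over.w z]
    · apply Over.OverMorphism.ext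
      exact pullback.lift_fst _ _ _
    · exact pullback.lift_snd _ _ _
  obtain ⟨xP, hxq, hxs⟩ := key x rfl
  obtain ⟨xP', hxq', hxs'⟩ := key x' hxx.symm
  have hqF : q ≫ φ = F := Over.OverMorphism.ext hφ₀
  have hy' : ∀ σ, xP' ≫ yσ σ = xP ≫ yσ σ := by
    intro σ
    apply Over.OverMorphism.ext
    change xP'.left ≫ m σ = xP.left ≫ m σ
    simp only [m, reassoc_of% hxs, reassoc_of% hxs']
  have hxq'' : xP' ≫ q ≫ p = lift (tq ≫ b) (xP ≫ q ≫ p) ≫ a.act := by
    rw [reassoc_of% hxq', reassoc_of% hxq, ← comp_lift, Category.assoc]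
    exact congrArg (tq ≫ ·) hx'
  rw [comp_mul, MonObj.comp_pow, ← reassoc_of% hxq', ← reassoc_of% hxq, hqF, hF, hcomp, hcomp]
  have hstep : ∀ σ, xP' ≫ d σ = (tq ≫ b) * (xP ≫ d σ) := by
    intro σ
    simp only [d]
    rw [comp_fibDiv, comp_fibDiv, fibDiv_congr a f hinv _ hxq'' ((Category.assoc _ _ _).symm.trans ((congrArg (· ≫ p) (hy' σ)).trans (Category.assoc _ _ _)))]
    exact fibDiv_act a f hinv _ _ _ _ _
  simp only [hstep]
  rw [Finset.prod_mul_distrib, Finset.prod_const, Finset.card_univ, mul_comm]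

/-- The norm map of a torsor under an abelian variety over a smooth variety. -/
theorem exists_torsor_norm [IsProper A.hom] [Smooth A.hom] [ConnectedSpace A.left]
    [Smooth X.hom] [IsSeparated X.hom] [QuasiCompact X.hom] [GeometricallyIntegral X.hom]
    [LocallyOfFiniteType Y.hom] [IsSeparated Y.hom] [Flat f.left] [Surjective f.left]
    (htors : IsIso (pullback.lift a.act (snd A X) hinv)) :
    ∃ (φ : X ⟶ A) (n : ℕ), 0 < n ∧
      ∀ (T : Over (Spec (CommRingCat.of k))) (b : T ⟶ A) (x : T ⟶ X),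
        lift b x ≫ a.act ≫ φ = (x ≫ φ) * b ^ n := by
  haveI := htors
  haveI := Groth.Agent.Lib.GrpSch.geometricallyReduced_of_smooth_field A.hom
  haveI : GeometricallyIntegral A.hom := Groth.Agent.H4.HomImage.geometricallyIntegral_of_connected A
  haveI : IsCommMonObj A := isCommMonObj_of_isProper_of_geometricallyIntegral A
  haveI : Smooth f.left := smooth_of_fibre_torsor a f hinv htors
  haveI : IsIntegral X.left := GeometricallyIntegral.isIntegral_of_subsingleton X.hom
  let ξ : X.left := genericPoint X.left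
  let y := f.left ξ
  let ey : Spec (CommRingCat.of (Y.left.residueField y)) ⟶ Y.left := Y.left.fromSpecResidueField y
  let Wk : Over (Spec (CommRingCat.of k)) := Over.mk (pullback.fst f.left ey ≫ X.hom)
  let p : Wk ⟶ X := Over.homMk (pullback.fst f.left ey) rfl
  obtain ⟨φ, n, hn, hφ⟩ := exists_fibre_norm a f hinv y ⟨ξ, rfl⟩
  let j := X.left.fromSpecResidueField ξ
  obtain ⟨t₀, ht₀, ht₀'⟩ : ∃ t₀ : Spec (X.left.residueField ξ) ⟶ Wk.left,
      t₀ ≫ pullback.fst f.left ey = j ∧ t₀ ≫ pullback.snd f.left ey = Spec.map (f.left.residueFieldMap ξ) :=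
    ⟨pullback.lift j (Spec.map (f.left.residueFieldMap ξ))
      (Scheme.Hom.SpecMap_residueFieldMap_fromSpecResidueField f.left ξ).symm,
      pullback.lift_fst _ _ _, pullback.lift_snd _ _ _⟩
  haveI : IsIso (X.left.residue ξ) :=
    (ConcreteCategory.isIso_iff_bijective _).2
      ⟨RingHom.injective (X.left.residue ξ).hom, Ideal.Quotient.mk_surjective⟩
  obtain ⟨ψ, hψ, hψX⟩ : ∃ ψ : Spec (X.left.presheaf.stalk ξ) ⟶ A.left,
      Spec.map (X.left.residue ξ) ≫ ψ = t₀ ≫ φ.left ∧ ψ ≫ A.hom = X.left.fromSpecStalk ξ ≫ X.hom := by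
    refine ⟨inv (Spec.map (X.left.residue ξ)) ≫ t₀ ≫ φ.left, IsIso.hom_inv_id_assoc _ _, ?_⟩
    rw [Category.assoc, Category.assoc, Over.w φ, IsIso.inv_comp_eq]
    exact (reassoc_of% ht₀) X.hom
  obtain ⟨U, hξU, g₀, hg₀, hg₀'⟩ :=
    spread_out_of_isGermInjective' (sX := X.hom) (sY := A.hom) ψ hψX
  obtain ⟨g, hg, hgU⟩ := Groth.Agent.S11992.result k X.left X.hom A U ⟨ξ, hξU⟩ g₀ hg₀'
  have hjg : j ≫ g = t₀ ≫ φ.left := by
    rw [← hψ, hg₀, ← hgU, ← Category.assoc (U.fromSpecStalkOfMem ξ hξU)]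
    rw [Scheme.Opens.fromSpecStalkOfMem_ι, ← Category.assoc]
    rfl
  let G : X ⟶ A := Over.homMk g hg
  have hjr : ∀ z, j z = ξ := fun z => by
    have := Scheme.range_fromSpecResidueField ξ
    exact this.le ⟨z, rfl⟩
  -- agreement on the whole fibre
  have hW : p ≫ G = φ := by
    apply Over.OverMorphism.ext
    haveI : Smooth (pullback.snd f.left ey) := inferInstance
    haveI : IsReduced Wk.left :=
      Groth.Agent.Lib.GrpSch.isReduced_of_smooth_field (pullback.snd f.left ey)
    haveI : IsPreimmersion (pullback.fst f.left ey) := inferInstance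
    haveI : IsDominant t₀ := by
      refine ⟨?_⟩
      rw [DenseRange, (pullback.fst f.left ey).isEmbedding.toIsInducing.dense_iff]
      intro w
      rw [← Set.range_comp]
      have h1 : ξ ∈ Set.range (⇑(pullback.fst f.left ey) ∘ ⇑t₀) :=
        ⟨IsLocalRing.closedPoint _, (congrArg (fun h : _ ⟶ X.left => h _) ht₀).trans (hjr _)⟩
      refine closure_mono (Set.singleton_subset_iff.2 h1) ?_
      rw [genericPoint_closure]
      trivial
    refine ext_of_isDominant_of_isSeparated A.hom ?_ t₀ ?_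
    · rw [Over.w, Over.w]
    · change t₀ ≫ pullback.fst f.left ey ≫ g = t₀ ≫ φ.left
      rw [reassoc_of% ht₀, hjg]
  -- agreement everywhere
  refine ⟨G, n, hn, fun T b x => ?_⟩
  suffices h : a.act ≫ G = (snd A X ≫ G) * (fst A X) ^ n by
    rw [h, comp_mul, MonObj.comp_pow, lift_snd_assoc, lift_fst]
  let Ξ : Over (Spec (CommRingCat.of k)) := Over.mk (j ≫ X.hom)
  let jX : Ξ ⟶ X := Over.homMk j rfl
  let tW : Ξ ⟶ Wk := Over.homMk t₀ ((reassoc_of% ht₀) X.hom)
  have htW : tW ≫ p = jX := Over.OverMorphism.ext ht₀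
  haveI : IsIntegral (A ⊗ X).left := by
    haveI : IsLocallyNoetherian X.left := LocallyOfFiniteType.isLocallyNoetherian X.hom
    exact inferInstanceAs (IsIntegral (pullback A.hom X.hom))
  haveI : IsDominant (A ◁ jX).left := by
    refine ⟨?_⟩
    have hsq := Groth.Agent.Lib.GrpSch.isPullback_whiskerLeft A jX
    have hr : Set.range (A ◁ jX).left = (snd A X).left ⁻¹' (Set.range j) := by
      rw [← hsq.isoPullback_hom_fst, Scheme.Hom.comp_base, TopCat.coe_comp, Set.range_comp,
        Set.range_eq_univ.2 hsq.isoPullback.hom.surjective, Set.image_univ, Scheme.Pullback.range_fst]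
      rfl
    rw [DenseRange, hr]
    have hd : Dense (Set.range j) := by
      intro z
      have h1 : ξ ∈ Set.range j := ⟨IsLocalRing.closedPoint (X.left.residueField ξ), hjr _⟩
      refine closure_mono (Set.singleton_subset_iff.2 h1) ?_
      rw [genericPoint_closure]
      trivial
    have ho : IsOpenMap (snd A X).left := (pullback.snd A.hom X.hom).isOpenMap
    exact hd.preimage ho
  apply Over.OverMorphism.ext
  refine ext_of_isDominant_of_isSeparated A.hom (by rw [Over.w, Over.w]) (A ◁ jX).left ?_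
  refine congrArg CommaMorphism.left (?_ : (A ◁ jX) ≫ a.act ≫ G = (A ◁ jX) ≫ ((snd A X ≫ G) * (fst A X) ^ n))
  rw [comp_mul, MonObj.comp_pow, whiskerLeft_snd_assoc, whiskerLeft_fst]
  let x₁ : A ⊗ Ξ ⟶ Wk := snd A Ξ ≫ tW
  let pa : A ⊗ Ξ ⟶ X := (A ◁ jX) ≫ a.act
  have hpa : pa.left ≫ f.left = (x₁.left ≫ pullback.snd f.left ey) ≫ ey := by
    rw [Category.assoc, ← pullback.condition]
    refine congrArg CommaMorphism.left (?_ : pa ≫ f = x₁ ≫ p ≫ f)
    simp only [pa, x₁, Category.assoc, reassoc_of% htW, hinv, whiskerLeft_snd_assoc]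
  let x₁' : A ⊗ Ξ ⟶ Wk := Over.homMk (pullback.lift pa.left (x₁.left ≫ pullback.snd f.left ey) hpa) (by
    change pullback.lift _ _ _ ≫ pullback.fst f.left ey ≫ X.hom = _
    rw [pullback.lift_fst_assoc, Over.w pa])
  have h' : x₁' ≫ p = pa := Over.OverMorphism.ext (pullback.lift_fst _ _ _)
  have key := hφ _ (fst A Ξ) x₁ x₁' (pullback.lift_snd _ _ _).symm (by
    change x₁' ≫ p = lift (fst A Ξ) (x₁ ≫ p) ≫ a.act
    rw [h']
    simp only [pa, x₁, Category.assoc, htW]
    congr 1)
  rw [← hW, reassoc_of% h'] at key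
  simpa only [pa, x₁, Category.assoc, reassoc_of% htW] using key

end Groth.Agent.Lib.TorsorNorm
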