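import Groth.Agent.Lib.TorsorNorm.Complement
import Groth.Agent.Lib.IsogLaw.Sub
import Groth.Agent.Lib.GrpQ.MonoClosed
import Groth.Agent.Lib.SemiAbIsog.CompDim

/-!
# Quasi-complements of abelian subvarieties
-/

set_option autoImplicit false
set_option backward.isDefEq.respectTransparency false
set_option linter.style.haveILetI false
universe u

open CategoryTheory CategoryTheory.Limits MonoidalCategory CartesianMonoidalCategory MonObj AlgebraicGeometry

namespace Groth.Agent.Lib.TorsorNorm

variable {k : Type u} [Field k] [IsAlgClosed k]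

omit [IsAlgClosed k] in
theorem pt_mul_comp {H : Over (Spec (CommRingCat.of k))} [GrpObj H] {T : Over (Spec (CommRingCat.of k))}
    (q : T ⟶ H) (g : 𝟙_ (Over (Spec (CommRingCat.of k))) ⟶ H) :
    q ≫ (𝟙 H * (toUnit H ≫ g)) = q * (toUnit T ≫ g) := by
  rw [MonObj.comp_mul, Category.comp_id, ← Category.assoc, toUnit_unique (q ≫ toUnit H) (toUnit T)]

/-- Right translation. -/
noncomputable def rightTr {H : Over (Spec (CommRingCat.of k))} [GrpObj H]
    (g : 𝟙_ (Over (Spec (CommRingCat.of k))) ⟶ H) : H ≅ H where
  hom := 𝟙 H * (toUnit H ≫ g)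
  inv := 𝟙 H * (toUnit H ≫ g⁻¹)
  hom_inv_id := by rw [pt_mul_comp, GrpObj.comp_inv, mul_inv_cancel_right]
  inv_hom_id := by rw [pt_mul_comp, GrpObj.comp_inv, inv_mul_cancel_right]

theorem exists_quasiComplement {G A : Over (Spec (CommRingCat.of k))} [GrpObj G] [GrpObj A]
    [IsProper A.hom] [Smooth A.hom] [ConnectedSpace A.left] [Smooth G.hom] [QuasiCompact G.hom]
    [ConnectedSpace G.left] (i : A ⟶ G) [IsMonHom i] [IsClosedImmersion i.left] :
    ∃ (H : Over (Spec (CommRingCat.of k))) (_ : GrpObj H) (h : H ⟶ G), IsMonHom h ∧ IsClosedImmersion h.left ∧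
      Smooth H.hom ∧ ConnectedSpace ↥H.left ∧ AlgGrp.IsNormalHom h ∧ Surjective ((i ⊗ₘ h) ≫ μ[G]).left ∧
      IsFinite (pullback.fst i.left h.left ≫ A.hom) := by
  haveI : IsSeparated G.hom := Groth.Agent.Lib.GrpSch.isSeparated_of_field G
  haveI := Groth.Agent.Lib.GrpSch.geometricallyReduced_of_smooth_field G.hom
  haveI : GeometricallyIntegral G.hom := Groth.Agent.H4.HomImage.geometricallyIntegral_of_connected G
  haveI : IsIntegral G.left := GeometricallyIntegral.isIntegral_of_subsingleton G.hom
  obtain ⟨N, _, j, hj, hjc, hjn, -, hsurj, hfin, hNS⟩ := exists_complement i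
  haveI := hj; haveI := hjc
  haveI : Smooth N.hom := hNS inferInstance
  haveI : QuasiCompact N.hom := by rw [← Over.w j]; infer_instance
  haveI : LocallyOfFiniteType N.hom := inferInstance
  obtain ⟨C, _, c, hc, hco, hcc, hconn, hrange⟩ := Groth.Agent.Lib.IsogLaw.exists_component N
  haveI := hc; haveI := hco; haveI := hcc; haveI := hconn
  haveI : Smooth C.hom := by rw [← Over.w c]; infer_instance
  haveI : QuasiCompact C.hom := by rw [← Over.w c]; infer_instance
  haveI : IsClosedImmersion (c ≫ j).left := by rw [Over.comp_left]; infer_instance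
  let e := η[N].left (IsLocalRing.closedPoint k)
  have hnormal : AlgGrp.IsNormalHom (c ≫ j) := by
    haveI : Smooth (G ⊗ C).hom := Groth.Agent.Lib.GrpQ.smooth_tensor
    haveI : IsReduced (G ⊗ C).left := Groth.Agent.Lib.GrpSch.isReduced_of_smooth_field (G ⊗ C).hom
    haveI := Groth.Agent.Lib.GrpSch.geometricallyReduced_of_smooth_field C.hom
    haveI : GeometricallyIntegral C.hom := Groth.Agent.H4.HomImage.geometricallyIntegral_of_connected C
    haveI : IsIntegral C.left := GeometricallyIntegral.isIntegral_of_subsingleton C.hom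
    haveI : IsLocallyNoetherian C.left := LocallyOfFiniteType.isLocallyNoetherian C.hom
    haveI : IsIntegral (G ⊗ C).left := inferInstanceAs (IsIntegral (pullback G.hom C.hom))
    obtain ⟨w₀, hw₀⟩ := hjn (G ⊗ C) (fst G C) (snd G C ≫ c)
    have hr : Set.range w₀.left ⊆ Set.range c.left := by
      rw [hrange]
      have hcn : _root_.IsPreconnected (Set.range w₀.left) := by
        rw [← Set.image_univ]
        exact isPreconnected_univ.image _ w₀.left.continuous.continuousOn
      refine hcn.subset_connectedComponent ⟨(lift η[G] η[C]).left (IsLocalRing.closedPoint k), ?_⟩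
      haveI : Mono j := Over.mono_of_mono_left _
      have : lift η[G] η[C] ≫ w₀ = η[N] := by
        rw [← cancel_mono j, Category.assoc, ← hw₀, IsMonHom.one_hom]
        simp only [comp_mul, GrpObj.comp_inv, lift_fst, lift_snd_assoc, Category.assoc, IsMonHom.one_hom]
        rw [mul_inv_cancel_right]
      rw [← Scheme.Hom.comp_apply, ← Over.comp_left, this]
    obtain ⟨w, hw⟩ := SemiAbIsog.NormalPts.factor_of_range c w₀ hr
    intro T g x
    refine ⟨lift g x ≫ w, ?_⟩
    rw [Category.assoc, reassoc_of% hw, ← hw₀]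
    simp only [comp_mul, GrpObj.comp_inv, lift_fst, lift_snd_assoc, Category.assoc]
  have hmulsurj : Surjective ((i ⊗ₘ (c ≫ j)) ≫ μ[G]).left := by
    haveI := isMonHom_mul i (c ≫ j)
    haveI : LocallyOfFiniteType (A ⊗ C).hom := Groth.Agent.Lib.GrpQ.locallyOfFiniteType_tensor
    haveI : QuasiCompact (A ⊗ C).hom := inferInstanceAs (QuasiCompact (pullback.fst A.hom C.hom ≫ A.hom))
    obtain ⟨f, hf⟩ : ∃ f, f = ((i ⊗ₘ (c ≫ j)) ≫ μ[G]) := ⟨_, rfl⟩
    rw [← hf]
    haveI : IsMonHom f := hf ▸ inferInstance
    haveI : QuasiCompact f.left := by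
      haveI : QuasiCompact (f.left ≫ G.hom) := by rw [Over.w]; infer_instance
      exact QuasiCompact.of_comp f.left G.hom
    have hS : IsClosed (Set.range f.left) := Groth.Agent.Lib.GrpQ.MonoClosed.isClosed_range f
    haveI : JacobsonSpace G.left := LocallyOfFiniteType.jacobsonSpace G.hom
    haveI : IsLocallyNoetherian N.left := LocallyOfFiniteType.isLocallyNoetherian N.hom
    haveI : CompactSpace N.left := QuasiCompact.compactSpace_of_compactSpace N.hom
    haveI : LocallyConnectedSpace N.left :=
      FinCond.locallyConnectedSpace_of_locally_noetherian fun x => FinCond.locally_noetherian N.left x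
    haveI : JacobsonSpace N.left := LocallyOfFiniteType.jacobsonSpace N.hom
    haveI : DiscreteTopology (_root_.ConnectedComponents N.left) := inferInstance
    haveI : Finite (_root_.ConnectedComponents N.left) := finite_of_compact_of_discrete
    have hrep : ∀ z : _root_.ConnectedComponents N.left, ∃ r : 𝟙_ (Over (Spec (CommRingCat.of k))) ⟶ N,
        _root_.ConnectedComponents.mk (r.left (IsLocalRing.closedPoint k)) = z := by
      intro z
      obtain ⟨x, rfl⟩ := _root_.ConnectedComponents.surjective_coe z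
      obtain ⟨y, hy, hyc⟩ := nonempty_inter_closedPoints (X := N.left) ⟨x, mem_connectedComponent⟩
        (isOpen_connectedComponent (x := x)).isLocallyClosed
      refine ⟨Over.homMk (pointOfClosedPoint N.hom y hyc) (pointOfClosedPoint_comp _ _ _), ?_⟩
      rw [_root_.ConnectedComponents.coe_eq_coe]
      rw [show (Over.homMk (pointOfClosedPoint N.hom y hyc) (pointOfClosedPoint_comp _ _ _) :
        𝟙_ (Over (Spec (CommRingCat.of k))) ⟶ N).left (IsLocalRing.closedPoint k) = y from
          pointOfClosedPoint_apply _ _ _ _]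
      exact (connectedComponent_eq hy).symm
    choose r hr using hrep
    let R : _root_.ConnectedComponents N.left → (G ≅ G) := fun z => rightTr (r z ≫ j)
    have hcov : (Set.univ : Set G.left) ⊆ ⋃ z, (R z).hom.left '' Set.range f.left := by
      rw [← closure_closedPoints]
      refine closure_minimal (fun x hx => ?_) (isClosed_iUnion_of_finite fun z =>
        (Scheme.homeoOfIso ((Over.forget _).mapIso (R z))).isClosedMap _ hS)
      let gx : 𝟙_ (Over (Spec (CommRingCat.of k))) ⟶ G :=
        Over.homMk (pointOfClosedPoint G.hom x hx) (pointOfClosedPoint_comp _ _ _)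
      haveI := hsurj
      obtain ⟨z₀, hz₀⟩ := ((i ⊗ₘ j) ≫ μ[G]).left.surjective x
      obtain ⟨p, hp⟩ : ∃ p : 𝟙_ (Over (Spec (CommRingCat.of k))) ⟶ A ⊗ N, p ≫ (i ⊗ₘ j) ≫ μ[G] = gx := by
        haveI : JacobsonSpace (A ⊗ N).left := by
          haveI : LocallyOfFiniteType (A ⊗ N).hom := Groth.Agent.Lib.GrpQ.locallyOfFiniteType_tensor
          exact LocallyOfFiniteType.jacobsonSpace (A ⊗ N).hom
        haveI : LocallyOfFiniteType (A ⊗ N).hom := Groth.Agent.Lib.GrpQ.locallyOfFiniteType_tensor
        obtain ⟨y, hy, hyc⟩ := nonempty_inter_closedPoints (X := (A ⊗ N).left)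
          (Z := ((i ⊗ₘ j) ≫ μ[G]).left ⁻¹' {x}) ⟨z₀, hz₀⟩ (hx.preimage (Scheme.Hom.continuous _)).isLocallyClosed
        refine ⟨Over.homMk (pointOfClosedPoint (A ⊗ N).hom y hyc) (pointOfClosedPoint_comp _ _ _), ?_⟩
        refine Over.OverMorphism.ext (ext_of_apply_closedPoint_eq G.hom (Over.w _) (Over.w gx) ?_)
        rw [Over.comp_left, Scheme.Hom.comp_apply]
        exact (congrArg _ (pointOfClosedPoint_apply _ _ _ _)).trans (hy.trans (pointOfClosedPoint_apply _ _ _ _).symm)
      obtain ⟨nP, hnP⟩ : ∃ nP, nP = p ≫ snd A N := ⟨_, rfl⟩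
      let z := _root_.ConnectedComponents.mk (nP.left (IsLocalRing.closedPoint k))
      refine Set.mem_iUnion.2 ⟨z, ?_⟩
      obtain ⟨m, hm⟩ : ∃ m, m = nP * (r z)⁻¹ := ⟨_, rfl⟩
      have hmc : m.left (IsLocalRing.closedPoint k) ∈ Set.range c.left := by
        rw [hrange]
        let hh : N.left ≃ₜ N.left := Scheme.homeoOfIso ((Over.forget _).mapIso (rightTr (r z)⁻¹))
        have hτ : ∀ q : 𝟙_ (Over (Spec (CommRingCat.of k))) ⟶ N,
            hh (q.left (IsLocalRing.closedPoint k)) = (q * (r z)⁻¹).left (IsLocalRing.closedPoint k) := by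
          intro q
          show (rightTr (r z)⁻¹).hom.left _ = _
          rw [← Scheme.Hom.comp_apply, ← Over.comp_left, rightTr, pt_mul_comp, toUnit_unique (toUnit _) (𝟙 _),
            Category.id_comp]
        have h1 : nP.left (IsLocalRing.closedPoint k) ∈ connectedComponent ((r z).left (IsLocalRing.closedPoint k)) := by
          have := _root_.ConnectedComponents.coe_eq_coe.1 (hr z)
          rw [this]
          exact mem_connectedComponent
        have h2 := hh.continuous.image_connectedComponent_subset ((r z).left (IsLocalRing.closedPoint k))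
          ⟨_, h1, rfl⟩
        rw [hτ, hτ, mul_inv_cancel, ← hm] at h2
        have h1' : (η[N] : 𝟙_ (Over (Spec (CommRingCat.of k))) ⟶ N) = 1 := by
          rw [Hom.one_def, toUnit_unique (toUnit _) (𝟙 _), Category.id_comp]
        rwa [h1']
      obtain ⟨mC, hmC⟩ : ∃ mC : 𝟙_ (Over (Spec (CommRingCat.of k))) ⟶ C, mC ≫ c = m := by
        haveI : IsReduced (𝟙_ (Over (Spec (CommRingCat.of k)))).left :=
          inferInstanceAs (IsReduced (Spec (CommRingCat.of k)))
        refine SemiAbIsog.NormalPts.factor_of_range c m ?_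
        rintro _ ⟨t, rfl⟩
        rw [show t = IsLocalRing.closedPoint k from Subsingleton.elim (α := PrimeSpectrum k) _ _]
        exact hmc
      refine ⟨f.left ((lift (p ≫ fst A N) mC).left (IsLocalRing.closedPoint k)), ⟨_, rfl⟩, ?_⟩
      rw [← Scheme.Hom.comp_apply, ← Scheme.Hom.comp_apply, ← Over.comp_left, ← Over.comp_left,
        ← pointOfClosedPoint_apply G.hom x hx (IsLocalRing.closedPoint k)]
      have hgx : lift (p ≫ fst A N) mC ≫ f ≫ (R z).hom = gx := by
        simp only [hf, R, rightTr]
        rw [← Category.assoc (lift (p ≫ fst A N) mC), ← Category.assoc (lift (p ≫ fst A N) mC), pt_mul_comp,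
          toUnit_unique (toUnit (𝟙_ (Over (Spec (CommRingCat.of k))))) (𝟙 _), Category.id_comp, Category.assoc,
          ← hp, lift_map_assoc, ← Hom.mul_def]
        have hsplit : p ≫ (i ⊗ₘ j) ≫ μ[G] = (p ≫ fst A N ≫ i) * (p ≫ snd A N ≫ j) := by
          rw [Hom.mul_def, ← Category.assoc]
          congr 1
          apply CartesianMonoidalCategory.hom_ext <;> simp
        simp only [Category.assoc]
        rw [hsplit, reassoc_of% hmC, hm, MonObj.mul_comp, GrpObj.inv_comp, hnP, Category.assoc,
          _root_.mul_assoc, inv_mul_cancel_right]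
      rw [hgx]
      rfl
    have hir : IrreducibleSpace G.left := inferInstance
    obtain ⟨z, hz⟩ := Set.mem_iUnion.1 (hcov (Set.mem_univ (genericPoint G.left)))
    refine ⟨fun x => ?_⟩
    have hcl : IsClosed ((R z).hom.left '' Set.range f.left) :=
      (Scheme.homeoOfIso ((Over.forget _).mapIso (R z))).isClosedMap _ hS
    have hu : (R z).hom.left '' Set.range f.left = Set.univ := by
      refine Set.eq_univ_of_univ_subset ?_
      rw [← genericPoint_closure]
      exact closure_minimal (Set.singleton_subset_iff.2 hz) hcl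
    obtain ⟨y, ⟨y', rfl⟩, hy⟩ := hu.ge (Set.mem_univ ((R z).hom.left x))
    exact ⟨y', (Scheme.homeoOfIso ((Over.forget _).mapIso (R z))).injective hy⟩
  refine ⟨C, inferInstance, c ≫ j, inferInstance, inferInstance, inferInstance, inferInstance, hnormal, hmulsurj, ?_⟩
  let L := pullback.lift (pullback.fst i.left (c ≫ j).left) (pullback.snd i.left (c ≫ j).left ≫ c.left)
    (f := i.left) (g := j.left) (by rw [Category.assoc, pullback.condition, Over.comp_left])
  have hL : L ≫ pullback.fst _ _ = pullback.fst i.left (c ≫ j).left := pullback.lift_fst _ _ _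
  haveI : IsClosedImmersion (L ≫ pullback.fst i.left j.left) := by rw [hL]; infer_instance
  haveI : IsClosedImmersion L := IsClosedImmersion.of_comp L (pullback.fst i.left j.left)
  haveI := hfin
  rw [← hL, Category.assoc]
  infer_instance

end Groth.Agent.Lib.TorsorNorm
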