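import Groth.Agent.Lib.TorsorNorm.Generic
import Groth.Agent.S3030
import Groth.Agent.H3.Rigidity
import Groth.Agent.H14.FppfDesc.Scheme

/-!
# The norm map of an abelian subvariety
-/

set_option autoImplicit false
set_option backward.isDefEq.respectTransparency false
set_option linter.style.haveILetI false
universe u

open CategoryTheory CategoryTheory.Limits MonoidalCategory CartesianMonoidalCategory MonObj AlgebraicGeometry

namespace Groth.Agent.Lib.TorsorNorm

variable {k : Type u} [Field k] {G A : Over (Spec (CommRingCat.of k))} [GrpObj G] [GrpObj A]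

/-- An abelian subvariety of a smooth connected group is central. -/
theorem central_of_proper [IsProper A.hom] [Smooth A.hom] [ConnectedSpace A.left]
    [Smooth G.hom] [ConnectedSpace G.left] (i : A ⟶ G) [IsMonHom i]
    (T : Over (Spec (CommRingCat.of k))) (b : T ⟶ A) (g : T ⟶ G) : (b ≫ i) * g = g * (b ≫ i) := by
  haveI := Groth.Agent.Lib.GrpSch.geometricallyReduced_of_smooth_field A.hom
  haveI := Groth.Agent.Lib.GrpSch.geometricallyReduced_of_smooth_field G.hom
  haveI : GeometricallyIntegral A.hom := Groth.Agent.H4.HomImage.geometricallyIntegral_of_connected A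
  haveI : GeometricallyIntegral G.hom := Groth.Agent.H4.HomImage.geometricallyIntegral_of_connected G
  haveI : IsIntegral G.left := GeometricallyIntegral.isIntegral_of_subsingleton G.hom
  haveI : IsSeparated G.hom := Groth.Agent.Lib.GrpSch.isSeparated_of_field G
  let c : A ⊗ G ⟶ G := (fst A G ≫ i) * snd A G * (fst A G ≫ i)⁻¹ * (snd A G)⁻¹
  have hc : c = toUnit (A ⊗ G) ≫ η[G] := by
    refine Groth.Agent.H3.Rigidity.rigidity A G G c η[A] η[G] η[G] ?_ ?_
    · simp only [c, comp_mul, GrpObj.comp_inv, lift_fst_assoc, lift_snd]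
      rw [← Hom.one_def, Category.id_comp, _root_.mul_one, mul_inv_cancel, _root_.one_mul, inv_one]
    · simp only [c, comp_mul, GrpObj.comp_inv, lift_fst_assoc, lift_snd, Category.assoc]
      rw [IsMonHom.one_hom, ← Hom.one_def, _root_.one_mul, inv_one, _root_.mul_one, mul_inv_cancel]
  have h := congrArg (lift b g ≫ ·) hc
  simp only [c, comp_mul, GrpObj.comp_inv, lift_fst_assoc, lift_snd] at h
  rw [← Category.assoc, Subsingleton.elim (lift b g ≫ toUnit _) (toUnit T), ← Hom.one_def] at h
  rw [mul_inv_eq_one, mul_inv_eq_iff_eq_mul] at h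
  exact h

/-- The norm map of an abelian subvariety. -/
theorem exists_subAV_norm [LocallyOfFiniteType G.hom] [QuasiCompact G.hom] [IsProper A.hom] [Smooth A.hom]
    [ConnectedSpace A.left] [Smooth G.hom] [ConnectedSpace G.left] (i : A ⟶ G) [IsMonHom i]
    [IsClosedImmersion i.left] :
    ∃ (φ : G ⟶ A) (n : ℕ), 0 < n ∧
      ∀ (T : Over (Spec (CommRingCat.of k))) (g : T ⟶ G) (b : T ⟶ A),
        (g * (b ≫ i)) ≫ φ = (g ≫ φ) * b ^ n := by
  haveI := Groth.Agent.Lib.GrpSch.geometricallyReduced_of_smooth_field G.hom
  haveI : GeometricallyIntegral G.hom := Groth.Agent.H4.HomImage.geometricallyIntegral_of_connected G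
  haveI : IsSeparated G.hom := Groth.Agent.Lib.GrpSch.isSeparated_of_field G
  haveI : Mono i.left := inferInstance
  haveI : Mono i := (Over.forget _).mono_of_mono_map ‹Mono i.left›
  have hN : AlgGrp.IsNormalHom i := fun T g b =>
    ⟨b, by rw [← central_of_proper i T b g, mul_inv_cancel_right]⟩
  obtain ⟨Q, _, q, hq, hqf, hqs, hqp, hK, hQs, hQf, -⟩ := Groth.Agent.S3030.result k A G i hN
  haveI := hq; haveI := hqf; haveI := hqs; haveI := hQs; haveI := hqp
  haveI : LocallyOfFiniteType Q.hom := Groth.Agent.H14.FppfDesc.Scheme.locallyOfFiniteType_of_comp q.left Q.hom (by rw [Over.w]; infer_instance)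
  let a : AlgGrp.Action A G :=
    { act := (snd A G) * (fst A G ≫ i)
      one_act := by
        rw [comp_mul, whiskerRight_snd, whiskerRight_fst_assoc, IsMonHom.one_hom,
          Subsingleton.elim (fst (𝟙_ (Over (Spec (CommRingCat.of k)))) G) (toUnit _), ← Hom.one_def, _root_.mul_one,
          leftUnitor_hom]
      mul_act := by
        simp only [comp_mul, whiskerRight_snd, whiskerRight_fst_assoc, whiskerLeft_fst_assoc, whiskerLeft_snd,
          associator_hom_fst_assoc, associator_hom_snd_fst_assoc, associator_hom_snd_snd, Category.assoc]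
        rw [IsMonHom.mul_hom]
        have e1 : fst (A ⊗ A) G ≫ (i ⊗ₘ i) ≫ μ[G]
            = (fst (A ⊗ A) G ≫ fst A A ≫ i) * (fst (A ⊗ A) G ≫ snd A A ≫ i) := by
          rw [Hom.mul_def, ← Category.assoc]
          congr 1
          apply CartesianMonoidalCategory.hom_ext <;> simp
        rw [e1, _root_.mul_assoc]
        congr 1
        exact (central_of_proper i _ (fst (A ⊗ A) G ≫ fst A A) _).trans rfl }
  have hact : ∀ {T : Over (Spec (CommRingCat.of k))} (b : T ⟶ A) (g : T ⟶ G),
      lift b g ≫ a.act = g * (b ≫ i) := by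
    intro T b g
    simp only [a, comp_mul, lift_fst_assoc, lift_snd]
  have hinv : a.act ≫ q = snd A G ≫ q := by
    simp only [a, MonObj.mul_comp, Category.assoc]
    rw [hK.w, ← Category.assoc (fst A G), Subsingleton.elim (fst A G ≫ toUnit A) (toUnit _), ← Hom.one_def, _root_.mul_one]
  have htors : IsIso (pullback.lift a.act (snd A G) hinv) := by
    have hw : ((pullback.snd q q)⁻¹ * pullback.fst q q) ≫ q = toUnit _ ≫ η[Q] := by
      rw [MonObj.mul_comp, GrpObj.inv_comp, pullback.condition, inv_mul_cancel, Hom.one_def]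
    let δ : pullback q q ⟶ A := hK.lift ((pullback.snd q q)⁻¹ * pullback.fst q q) (toUnit _) hw
    have hδ : δ ≫ i = (pullback.snd q q)⁻¹ * pullback.fst q q := hK.lift_fst _ _ _
    refine ⟨lift δ (pullback.snd q q), ?_, ?_⟩
    · apply CartesianMonoidalCategory.hom_ext
      · rw [Category.assoc, lift_fst, Category.id_comp, ← cancel_mono i, Category.assoc, hδ, comp_mul,
          GrpObj.comp_inv, pullback.lift_fst, pullback.lift_snd]
        simp only [a, inv_mul_cancel_left]
      · rw [Category.assoc, lift_snd, pullback.lift_snd, Category.id_comp]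
    · apply pullback.hom_ext
      · rw [Category.assoc, pullback.lift_fst, Category.id_comp, hact, hδ, mul_inv_cancel_left]
      · rw [Category.assoc, pullback.lift_snd, Category.id_comp, lift_snd]
  obtain ⟨φ, n, hn, hφ⟩ := exists_torsor_norm a q hinv htors
  refine ⟨φ, n, hn, fun T g b => ?_⟩
  rw [← hact, Category.assoc]
  exact hφ T b g

end Groth.Agent.Lib.TorsorNorm
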